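import Groth.Agent.MdlRegPt.Geom
import Groth.Agent.MdlInter.Exc
import Groth.Agent.MdlInter.Genus
import Groth.Agent.WeilLib.PointCount
import Mathlib.AlgebraicGeometry.Morphisms.Finite
import Mathlib.LinearAlgebra.Dimension.Localization
import Mathlib.RingTheory.Algebraic.Integral

/-!
# The finite algebra of a horizontal point meeting the closed fibre once
-/

set_option linter.style.haveILetI false
set_option backward.isDefEq.respectTransparency false
set_option backward.isDefEq.respectTransparency.types false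
set_option maxHeartbeats 1000000

universe u

open CategoryTheory CategoryTheory.Limits AlgebraicGeometry TopologicalSpace IsLocalRing
attribute [local instance] Curv2.resAlgebra

noncomputable section

namespace Groth.Agent.MdlRegPt

open MdlInter

variable {R : Type u} [CommRing R] [IsDomain R] [IsDiscreteValuationRing R]
  {X : Scheme.{u}} {p : X ⟶ Spec (CommRingCat.of R)}

theorem appLE_spec (U : X.Opens) (hU : IsAffineOpen U) :
    Spec.map (CommRingCat.ofHom ((X.presheaf.map (homOfLE (le_top : U ≤ ⊤)).op).hom.comp (Coh.toGlobal p))) =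
      hU.fromSpec ≫ p := by
  have h := IsAffineOpen.SpecMap_appLE_fromSpec p (isAffineOpen_top (Spec (CommRingCat.of R))) hU
    (show U ≤ p ⁻¹ᵁ ⊤ from le_top)
  rw [← h, IsAffineOpen.fromSpec_top, Scheme.isoSpec_Spec_inv, ← Spec.map_comp]
  rfl

theorem eq_bot_or_closed (s : Spec (CommRingCat.of R)) :
    s = IsLocalRing.closedPoint R ∨ s = (⟨⊥, Ideal.isPrime_bot⟩ : PrimeSpectrum R) := by
  by_cases h : s.asIdeal = ⊥
  · exact Or.inr (PrimeSpectrum.ext h)
  · exact Or.inl (PrimeSpectrum.ext (IsLocalRing.eq_maximalIdeal (Ideal.IsPrime.isMaximal s.2 h)))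

theorem range_generic :
    Set.range (Spec.map (CommRingCat.ofHom (algebraMap R (FractionRing R)))) =
      ({(⟨⊥, Ideal.isPrime_bot⟩ : PrimeSpectrum R)} : Set (PrimeSpectrum R)) := by
  have key : ∀ t : Spec (CommRingCat.of (FractionRing R)),
      Spec.map (CommRingCat.ofHom (algebraMap R (FractionRing R))) t = (⟨⊥, Ideal.isPrime_bot⟩ : PrimeSpectrum R) := by
    intro t
    apply PrimeSpectrum.ext
    show t.asIdeal.comap (algebraMap R (FractionRing R)) = ⊥
    rw [(Ideal.eq_bot_or_top t.asIdeal).resolve_right t.2.ne_top, ← RingHom.ker_eq_comap_bot,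
      (RingHom.injective_iff_ker_eq_bot _).1 (IsFractionRing.injective R (FractionRing R))]
  refine Set.eq_singleton_iff_unique_mem.2 ⟨⟨IsLocalRing.closedPoint _, key _⟩, ?_⟩
  rintro _ ⟨t, rfl⟩
  exact key t

variable {C : Scheme.{u}} [C.Over (Spec (CommRingCat.of (FractionRing R)))] {iX : C ⟶ X}

theorem resAlgebra_finrank [LocallyOfFiniteType (C ↘ Spec (CommRingCat.of (FractionRing R)))] (P : C) :
    Module.finrank (FractionRing R) (C.residueField P) =
      (C ↘ Spec (CommRingCat.of (FractionRing R))).residueDegree P :=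
  (WeilLib.residueDegree_eq_finrank _ P).symm

theorem main [IsProper p] [Flat p] [IsLocallyNoetherian X]
    (hreg : ∀ y : X, IsRegularLocalRing (X.presheaf.stalk y))
    [LocallyOfFiniteType (C ↘ Spec (CommRingCat.of (FractionRing R)))]
    (hC : topologicalKrullDim C ≤ 1)
    (hiX : IsPullback iX (C ↘ Spec (CommRingCat.of (FractionRing R))) p
      (Spec.map (CommRingCat.ofHom (algebraMap R (FractionRing R)))))
    {x : X} {n : ℕ} (Γ : Fin n → ArSurf.VertComp R (Over.mk p))
    (hinj : Function.Injective fun i => Set.range (iotaV (Γ i)))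
    (hΓ : ∀ Z ∈ Models.fibreComponents R (Over.mk p), x ∈ Z ↔ ∃ i, Set.range (iotaV (Γ i)) = Z)
    (P : C) (hP : IsClosed ({P} : Set C))
    (hPx : closure ({iX P} : Set X) ∩ Models.specialFibreSet R (Over.mk p) = {x}) :
    ∃ c : Fin n → ℕ, (∀ i, 1 ≤ c i) ∧
      Module.finrank (FractionRing R) (C.residueField P) = ∑ i, c i * Models.mult R (Over.mk p) (Γ i) := by
  classical
  let f := C ↘ Spec (CommRingCat.of (FractionRing R))
  haveI : IsPreimmersion (Spec.map (CommRingCat.ofHom (algebraMap R (FractionRing R)))) :=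
    IsPreimmersion.of_isLocalization (nonZeroDivisors R)
  haveI : IsPreimmersion iX := MorphismProperty.of_isPullback hiX.flip inferInstance
  have hrange : Set.range iX = p ⁻¹' {(⟨⊥, Ideal.isPrime_bot⟩ : PrimeSpectrum R)} := by
    rw [← range_generic (R := R), ← Scheme.Pullback.range_fst]
    rw [← hiX.isoPullback_hom_fst, Scheme.Hom.comp_base]
    exact Function.Surjective.range_comp (Scheme.Hom.homeomorph hiX.isoPullback.hom).surjective _
  have hgen : topologicalKrullDim ↥(p ⁻¹' {(⟨⊥, Ideal.isPrime_bot⟩ : PrimeSpectrum R)}) ≤ 1 := by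
    rw [← hrange, ← iX.isEmbedding.toHomeomorph.isHomeomorph.topologicalKrullDim_eq]
    exact hC
  obtain ⟨ϖ, hirr⟩ := IsDiscreteValuationRing.exists_irreducible R
  obtain ⟨r, hr, hmult, hfac⟩ :=
    exists_factorisation hreg hgen Γ hinj hΓ hirr.maximalIdeal_eq hirr.ne_zero
  -- the closure of the point
  let P' := iX P
  have hxmem : x ∈ closure ({P'} : Set X) ∩ Models.specialFibreSet R (Over.mk p) := by
    rw [hPx]; exact Set.mem_singleton x
  have hPx' : P' ⤳ x := specializes_iff_mem_closure.2 hxmem.1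
  have hpP : p P' = (⟨⊥, Ideal.isPrime_bot⟩ : PrimeSpectrum R) :=
    (Set.ext_iff.1 hrange P').1 ⟨P, rfl⟩
  have hclosure : ∀ y ∈ closure ({P'} : Set X), y = x ∨ y = P' := by
    intro y hy
    rcases eq_bot_or_closed (p y) with h | h
    · exact Or.inl (by
        have : y ∈ closure ({P'} : Set X) ∩ Models.specialFibreSet R (Over.mk p) := ⟨hy, h⟩
        rwa [hPx] at this)
    · obtain ⟨Q, rfl⟩ := (Set.ext_iff.1 hrange y).2 h
      have hQ : P ⤳ Q := iX.isEmbedding.isInducing.specializes_iff.1 (specializes_iff_mem_closure.2 hy)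
      have := hQ.mem_closure
      rw [hP.closure_eq] at this
      exact Or.inr (congrArg iX this)
  obtain ⟨_, ⟨W, hW, rfl⟩, hxW, -⟩ := X.isBasis_affineOpens.exists_subset_of_mem_open
    (Set.mem_univ x) isOpen_univ
  have hPW : P' ∈ W := hPx'.mem_open W.2 hxW
  have hsub : closure ({P'} : Set X) ⊆ W := fun y hy => by
    rcases hclosure y hy with rfl | rfl
    · exact hxW
    · exact hPW
  letI : Algebra R Γ(X, W) :=
    ((X.presheaf.map (homOfLE (le_top : W ≤ ⊤)).op).hom.comp (Coh.toGlobal p)).toAlgebra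
  have hφ : Spec.map (CommRingCat.ofHom (algebraMap R Γ(X, W))) = hW.fromSpec ≫ p := appLE_spec W hW
  let v := hW.primeIdealOf ⟨P', hPW⟩
  have hv : hW.fromSpec v = P' := hW.fromSpec_primeIdealOf ⟨P', hPW⟩
  let B := Γ(X, W) ⧸ v.asIdeal
  let j : Spec (CommRingCat.of B) ⟶ X :=
    Spec.map (CommRingCat.ofHom (Ideal.Quotient.mk v.asIdeal)) ≫ hW.fromSpec
  haveI : IsClosedImmersion (Spec.map (CommRingCat.ofHom (Ideal.Quotient.mk v.asIdeal))) :=
    IsClosedImmersion.spec_of_surjective _ Ideal.Quotient.mk_surjective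
  have hjrange : Set.range j = closure ({P'} : Set X) := by
    have h1 : Set.range (Spec.map (CommRingCat.ofHom (Ideal.Quotient.mk v.asIdeal))) =
        hW.fromSpec ⁻¹' closure {P'} := by
      rw [← hv, ← Set.image_singleton, ← hW.fromSpec.isOpenEmbedding.isInducing.closure_eq_preimage_closure_image]
      show Set.range (PrimeSpectrum.comap (Ideal.Quotient.mk v.asIdeal)) = _
      rw [range_comap_of_surjective _ _ Ideal.Quotient.mk_surjective, Ideal.mk_ker,
        PrimeSpectrum.closure_singleton]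
    rw [show Set.range j = hW.fromSpec '' Set.range (Spec.map (CommRingCat.ofHom (Ideal.Quotient.mk v.asIdeal))) from
      by rw [← Set.range_comp]; rfl, h1, Set.image_preimage_eq_inter_range, hW.range_fromSpec]
    exact Set.inter_eq_left.2 hsub
  haveI : IsPreimmersion j := inferInstance
  haveI : IsClosedImmersion j := IsClosedImmersion.of_isPreimmersion j (hjrange ▸ isClosed_closure)
  have hjp : Spec.map (CommRingCat.ofHom (algebraMap R B)) = j ≫ p := by
    simp only [j, Category.assoc, ← hφ, ← Spec.map_comp]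
    rfl
  haveI : Module.Finite R B := by
    have h : IsFinite (Spec.map (CommRingCat.ofHom (algebraMap R B))) := by
      rw [IsFinite.iff_isProper_and_isAffineHom]
      refine ⟨?_, inferInstance⟩
      rw [hjp]; infer_instance
    exact RingHom.finite_algebraMap.1 ((IsFinite.SpecMap_iff _).1 h)
  let b0 : Spec (CommRingCat.of B) := (⟨⊥, Ideal.isPrime_bot⟩ : PrimeSpectrum B)
  have hb0 : j b0 = P' := by
    rw [← hv]
    refine congrArg hW.fromSpec (PrimeSpectrum.ext ?_)
    show (⊥ : Ideal B).comap (Ideal.Quotient.mk v.asIdeal) = v.asIdeal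
    rw [← RingHom.ker_eq_comap_bot, Ideal.mk_ker]
  have hpj : ∀ b : Spec (CommRingCat.of B), (p (j b)).asIdeal = b.asIdeal.comap (algebraMap R B) := fun b => by
    rw [← Scheme.Hom.comp_apply, ← hjp]
    rfl
  have hinjRB : Function.Injective (algebraMap R B) := by
    rw [RingHom.injective_iff_ker_eq_bot, RingHom.ker_eq_comap_bot, ← hpj b0, hb0, hpP]
  haveI : FaithfulSMul R B := (faithfulSMul_iff_algebraMap_injective R B).2 hinjRB
  haveI : Module.IsTorsionFree R B :=
    Module.isTorsionFree_iff_smul_eq_zero.2 fun c m h => by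
      rwa [Algebra.smul_def, mul_eq_zero, map_eq_zero_iff _ hinjRB] at h
  obtain ⟨bx, hbx⟩ : x ∈ Set.range j := hjrange ▸ hxmem.1
  let q := hW.primeIdealOf ⟨x, hxW⟩
  have hq : bx.asIdeal.comap (Ideal.Quotient.mk v.asIdeal) = q.asIdeal := by
    have : Spec.map (CommRingCat.ofHom (Ideal.Quotient.mk v.asIdeal)) bx = q :=
      hW.fromSpec.isOpenEmbedding.injective (hbx.trans (hW.fromSpec_primeIdealOf ⟨x, hxW⟩).symm)
    exact congrArg PrimeSpectrum.asIdeal this
  have huniq : ∀ 𝔫 : Ideal B, 𝔫.IsMaximal → 𝔫.comap (Ideal.Quotient.mk v.asIdeal) = q.asIdeal := by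
    intro 𝔫 h𝔫
    let z : Spec (CommRingCat.of B) := (⟨𝔫, h𝔫.isPrime⟩ : PrimeSpectrum B)
    have hz : j z = x := by
      have : j z ∈ closure ({P'} : Set X) ∩ Models.specialFibreSet R (Over.mk p) := by
        refine ⟨hjrange ▸ ⟨z, rfl⟩, ?_⟩
        rw [mem_F_iff]
        apply PrimeSpectrum.ext
        rw [hpj]
        haveI : 𝔫.IsMaximal := h𝔫
        exact IsLocalRing.eq_maximalIdeal (Ideal.isMaximal_comap_of_isIntegral_of_isMaximal 𝔫)
      rwa [hPx] at this
    have : z = bx := j.isClosedEmbedding.injective (hz.trans hbx.symm)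
    rw [← hq, ← this]
  letI := X.presheaf.algebra_section_stalk (⟨x, hxW⟩ : W)
  haveI := hW.isLocalization_stalk ⟨x, hxW⟩
  have hunit : ∀ a : q.asIdeal.primeCompl, IsUnit (Ideal.Quotient.mk v.asIdeal a) := by
    intro a
    by_contra hu
    obtain ⟨𝔫, h𝔫, ha⟩ := exists_max_ideal_of_mem_nonunits (show Ideal.Quotient.mk v.asIdeal a ∈ nonunits B from hu)
    exact a.2 ((SetLike.ext_iff.1 (huniq 𝔫 h𝔫) a.1).1 ha)
  let φ : X.presheaf.stalk x →+* B := IsLocalization.lift (M := q.asIdeal.primeCompl) hunit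
  have hφa : ∀ a : Γ(X, W), φ (X.presheaf.germ W x hxW a) = Ideal.Quotient.mk v.asIdeal a :=
    fun a => IsLocalization.lift_eq hunit a
  have hφpi : φ (pi p ϖ x) = algebraMap R B ϖ := by
    rw [← pi_germ p ϖ W hxW, hφa]
    rfl
  have hloc : ∀ s ∈ IsLocalRing.maximalIdeal (X.presheaf.stalk x), ¬ IsUnit (φ s) := by
    intro s hs hu
    obtain ⟨⟨a, t⟩, hat⟩ := IsLocalization.surj q.asIdeal.primeCompl s
    have haq : a ∈ q.asIdeal := by
      by_contra hna
      have h2 := IsLocalization.map_units (X.presheaf.stalk x) (⟨a, hna⟩ : q.asIdeal.primeCompl)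
      rw [← hat] at h2
      exact (IsLocalRing.mem_maximalIdeal _).1 hs (isUnit_of_mul_isUnit_left h2)
    have hmem : Ideal.Quotient.mk v.asIdeal a ∈ bx.asIdeal := by rwa [← Ideal.mem_comap, hq]
    apply bx.2.ne_top
    refine Ideal.eq_top_of_isUnit_mem _ hmem ?_
    have h3 := congrArg φ hat
    rw [map_mul] at h3
    rw [← hφa a]
    refine h3 ▸ hu.mul ?_
    exact (hφa t).symm ▸ hunit t
  obtain ⟨c, hc, hdeg⟩ := exists_pos_sum (R := R) (B := B) hirr (fun i => φ (r i))
    (fun i => Models.mult R (Over.mk p) (Γ i)) hmult (fun i => hloc _ (hr i)) (by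
      rw [← hφpi]
      simpa [Ideal.map_span, map_prod, map_pow] using congrArg (Ideal.map φ) hfac)
  refine ⟨c, hc, hdeg ▸ ?_⟩
  -- degrees
  haveI : Algebra.IsAlgebraic R B := Algebra.IsIntegral.isAlgebraic
  let L := FractionRing B
  letI := FractionRing.liftAlgebra R L
  have hrL : Module.finrank (FractionRing R) L = Module.finrank R B := by
    simp only [Module.finrank]
    rw [Algebra.IsAlgebraic.rank_fractionRing R B]
  rw [← hrL, resAlgebra_finrank]
  haveI : IsPreimmersion (Spec.map (CommRingCat.ofHom (algebraMap B L))) :=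
    IsPreimmersion.of_isLocalization (nonZeroDivisors B)
  let j' : Spec (CommRingCat.of L) ⟶ X := Spec.map (CommRingCat.ofHom (algebraMap B L)) ≫ j
  let sK := Spec.map (CommRingCat.ofHom (algebraMap (FractionRing R) L))
  let g : Spec (CommRingCat.of L) ⟶ C := hiX.lift j' sK (by
    simp only [j', sK, Category.assoc, ← hjp, ← Spec.map_comp]
    congr 1
    ext a
    show algebraMap B L (algebraMap R B a) = algebraMap (FractionRing R) L (algebraMap R (FractionRing R) a)
    rw [← IsScalarTower.algebraMap_apply, ← IsScalarTower.algebraMap_apply])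
  let t : Spec (CommRingCat.of L) := IsLocalRing.closedPoint L
  have hgt : g t = P := by
    refine iX.isEmbedding.injective ?_
    rw [← Scheme.Hom.comp_apply, hiX.lift_fst]
    show j (Spec.map (CommRingCat.ofHom (algebraMap B L)) t) = P'
    rw [← hb0]
    refine congrArg j (PrimeSpectrum.ext ?_)
    show t.asIdeal.comap (algebraMap B L) = ⊥
    rw [(Ideal.eq_bot_or_top t.asIdeal).resolve_right t.2.ne_top, ← RingHom.ker_eq_comap_bot,
      (RingHom.injective_iff_ker_eq_bot _).1 (IsFractionRing.injective B L)]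
  have h1 : g.residueDegree t = 1 := by
    have h := CycLib.residueDegree_comp g iX t
    rw [H23.FiniteFibreSum.residueDegree_congr' (hiX.lift_fst j' sK _),
      CycLib.residueDegree_preimmersion j'] at h
    exact Nat.eq_one_of_mul_eq_one_left h.symm
  have h2 := CycLib.residueDegree_comp g f t
  rw [H23.FiniteFibreSum.residueDegree_congr' (hiX.lift_snd j' sK _), QsAlgLib.residueDegree_specMap,
    h1, mul_one, hgt] at h2
  exact h2.symm

end Groth.Agent.MdlRegPt
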