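import Mathlib.RingTheory.OrderOfVanishing.Basic
import Mathlib.RingTheory.DiscreteValuationRing.Basic
import Mathlib.RingTheory.Length
import Mathlib.LinearAlgebra.FreeModule.PID
import Mathlib.RingTheory.Finiteness.Cardinality

/-!
# Degrees of finite algebras over a DVR along a factorisation of the uniformiser
-/

set_option linter.style.haveILetI false
set_option linter.unusedSectionVars false

universe u

open scoped Pointwise

namespace Groth.Agent.MdlRegPt

variable {R : Type u} [CommRing R] {B : Type u} [CommRing B] [Algebra R B]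

theorem length_quot_mul {a b : B} (hb : b ∈ nonZeroDivisors B) :
    Module.length R (B ⧸ Ideal.span {a * b}) =
      Module.length R (B ⧸ Ideal.span {a}) + Module.length R (B ⧸ Ideal.span {b}) := by
  have h := Module.length_eq_add_of_exact ((Ideal.mulQuot b (Ideal.span {a})).restrictScalars R)
    ((Ideal.quotOfMul b (Ideal.span {a})).restrictScalars R) (Ideal.mulQuot_injective (Ideal.span {a}) hb)
    (Ideal.quotOfMul_surjective (Ideal.span {a})) (Ideal.exact_mulQuot_quotOfMul (Ideal.span {a}))
  have lem : b • Ideal.span {a} = Ideal.span {a * b} := by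
    rw [← Submodule.singleton_set_smul (Ideal.span {a}) b]
    simp [← Ideal.submodule_span_eq, Submodule.set_smul_span, mul_comm]
  rw [lem] at h
  exact h

theorem length_quot_one : Module.length R (B ⧸ Ideal.span {(1 : B)}) = 0 := by
  haveI : Subsingleton (B ⧸ Ideal.span {(1 : B)}) := Ideal.Quotient.subsingleton_iff.2 (by simp)
  exact Module.length_eq_zero

theorem length_quot_pow {a : B} (ha : a ∈ nonZeroDivisors B) (e : ℕ) :
    Module.length R (B ⧸ Ideal.span {a ^ e}) = e * Module.length R (B ⧸ Ideal.span {a}) := by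
  induction e with
  | zero => rw [pow_zero, length_quot_one, Nat.cast_zero, zero_mul]
  | succ n ih => rw [pow_succ, length_quot_mul ha, ih, Nat.cast_succ, add_mul, one_mul]

theorem length_quot_prod {ι : Type*} (s : Finset ι) (a : ι → B) (ha : ∀ i, a i ∈ nonZeroDivisors B) :
    Module.length R (B ⧸ Ideal.span {∏ i ∈ s, a i}) = ∑ i ∈ s, Module.length R (B ⧸ Ideal.span {a i}) := by
  classical
  induction s using Finset.induction_on with
  | empty => rw [Finset.prod_empty, Finset.sum_empty, length_quot_one]
  | insert j s hj ih =>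
    rw [Finset.prod_insert hj, Finset.sum_insert hj, length_quot_mul (prod_mem fun i _ => ha i), ih]

variable [IsDomain R] [IsDiscreteValuationRing R]

/-- The degree of a finite free algebra is the length of its quotient by a uniformiser. -/
theorem length_quot_uniformizer [Module.Finite R B] [Module.IsTorsionFree R B] {ϖ : R} (hϖ : Irreducible ϖ) :
    Module.length R (B ⧸ Ideal.span {algebraMap R B ϖ}) = Module.finrank R B := by
  haveI : Module.Free R B := Module.free_of_finite_type_torsion_free'
  let b := Module.finBasis R B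
  let F : B →ₗ[R] (Fin (Module.finrank R B) → R ⧸ Ideal.span {ϖ}) :=
    (LinearMap.pi fun i => (Ideal.span {ϖ}).mkQ.comp (LinearMap.proj i)).comp b.equivFun.toLinearMap
  have hFa : ∀ x i, F x i = Ideal.Quotient.mk (Ideal.span {ϖ}) (b.equivFun x i) := fun x i => rfl
  have hF : Function.Surjective F := by
    intro y
    choose z hz using fun i => Submodule.mkQ_surjective _ (y i)
    exact ⟨b.equivFun.symm z, funext fun i => by
      rw [hFa, LinearEquiv.apply_symm_apply]; exact hz i⟩
  have hk : (Ideal.span {algebraMap R B ϖ}).restrictScalars R = LinearMap.ker F := by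
    ext x
    rw [Submodule.restrictScalars_mem, LinearMap.mem_ker, Ideal.mem_span_singleton']
    constructor
    · rintro ⟨y, rfl⟩
      funext i
      rw [mul_comm, ← Algebra.smul_def, hFa, map_smul, Pi.zero_apply, Ideal.Quotient.eq_zero_iff_mem,
        Pi.smul_apply, smul_eq_mul, Ideal.mem_span_singleton]
      exact dvd_mul_right _ _
    · intro hx
      have hd : ∀ i, ϖ ∣ b.equivFun x i := fun i => by
        have := congrFun hx i
        rwa [hFa, Pi.zero_apply, Ideal.Quotient.eq_zero_iff_mem, Ideal.mem_span_singleton] at this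
      choose z hz using hd
      refine ⟨b.equivFun.symm z, ?_⟩
      rw [mul_comm, ← Algebra.smul_def]
      apply b.equivFun.injective
      rw [map_smul, LinearEquiv.apply_symm_apply]
      funext i
      exact (hz i).symm
  have e : (B ⧸ Ideal.span {algebraMap R B ϖ}) ≃ₗ[R] (Fin (Module.finrank R B) → R ⧸ Ideal.span {ϖ}) :=
    (Submodule.Quotient.restrictScalarsEquiv R _).symm.trans
      ((Submodule.quotEquivOfEq _ _ hk).trans (F.quotKerEquivOfSurjective hF))
  rw [e.length_eq, Module.length_pi]
  haveI : IsSimpleModule R (R ⧸ Ideal.span {ϖ}) :=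
    isSimpleModule_iff_isCoatom.2 (by
      rw [← hϖ.maximalIdeal_eq]; exact (IsLocalRing.maximalIdeal.isMaximal R).out)
  simp [Module.length_eq_one R (R ⧸ Ideal.span {ϖ})]

/-- If the uniformiser factors as `u ∏ b_i ^ e_i` with the `b_i` non-units, the degree is a positive combination of the `e_i`. -/
theorem exists_pos_sum [IsDomain B] [Module.Finite R B] [Module.IsTorsionFree R B] {ϖ : R} (hϖ : Irreducible ϖ)
    {n : ℕ} (b : Fin n → B) (e : Fin n → ℕ) (he : ∀ i, 1 ≤ e i) (hb : ∀ i, ¬ IsUnit (b i))
    (hprod : Ideal.span {algebraMap R B ϖ} = Ideal.span {∏ i, b i ^ e i}) :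
    ∃ c : Fin n → ℕ, (∀ i, 1 ≤ c i) ∧ Module.finrank R B = ∑ i, c i * e i := by
  classical
  have h0 : algebraMap R B ϖ ≠ 0 := by
    rw [Algebra.algebraMap_eq_smul_one]
    exact smul_ne_zero hϖ.ne_zero one_ne_zero
  have hprod0 : ∏ i, b i ^ e i ≠ 0 := fun h => h0 (by
    rw [h, Ideal.span_singleton_eq_span_singleton] at hprod
    exact (associated_zero_iff_eq_zero _).1 hprod)
  have hb0 : ∀ i, b i ∈ nonZeroDivisors B := fun i => mem_nonZeroDivisors_of_ne_zero fun h =>
    (Finset.prod_ne_zero_iff.1 hprod0) i (Finset.mem_univ i) (by rw [h, zero_pow (Nat.one_le_iff_ne_zero.1 (he i))])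
  have hsum : (Module.finrank R B : ℕ∞) = ∑ i, (e i : ℕ∞) * Module.length R (B ⧸ Ideal.span {b i}) := by
    rw [← length_quot_uniformizer hϖ, hprod, length_quot_prod Finset.univ _ (fun i => pow_mem (hb0 i) _)]
    exact Finset.sum_congr rfl fun i _ => length_quot_pow (hb0 i) (e i)
  have hfin : ∀ i, Module.length R (B ⧸ Ideal.span {b i}) ≠ ⊤ := fun i h => by
    have hle := Finset.single_le_sum (f := fun i => (e i : ℕ∞) * Module.length R (B ⧸ Ideal.span {b i}))
      (fun _ _ => bot_le) (Finset.mem_univ i)
    rw [← hsum, h, ENat.mul_top (by exact_mod_cast (Nat.one_le_iff_ne_zero.1 (he i)))] at hle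
    exact ENat.coe_ne_top _ (top_le_iff.1 hle)
  refine ⟨fun i => (Module.length R (B ⧸ Ideal.span {b i})).toNat, fun i => ?_, ?_⟩
  · haveI : Nontrivial (B ⧸ Ideal.span {b i}) :=
      Ideal.Quotient.nontrivial_iff.2 fun h => hb i (Ideal.span_singleton_eq_top.1 h)
    refine Nat.one_le_iff_ne_zero.2 fun h => ?_
    rcases ENat.toNat_eq_zero.1 h with h' | h'
    · exact (Module.length_pos (R := R) (M := B ⧸ Ideal.span {b i})).ne' h'
    · exact hfin i h'
  · rw [← Nat.cast_inj (R := ℕ∞), hsum, Nat.cast_sum]
    refine Finset.sum_congr rfl fun i _ => ?_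
    rw [Nat.cast_mul, ENat.coe_toNat (hfin i), mul_comm]

end Groth.Agent.MdlRegPt
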