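import Groth.Agent.MdlInter.Fibre
import Groth.Agent.MdlRegPt.Alg
import Groth.Agent.FibDim.Open
import Groth.Agent.CycLib.Push
import Groth.Agent.CycLib.DivMap
import Groth.Agent.QsAlgLib.Point
import Groth.Agent.H23.FiniteFibreSum
import Groth.Agent.H23.StalkPrimes
import Groth.Agent.RegLoc6.Basic
import Groth.Agent.S2821
import Groth.Prelude.Def_CurvBase
import Mathlib.AlgebraicGeometry.Morphisms.Proper
import Mathlib.AlgebraicGeometry.Morphisms.UniversallyOpen
import Mathlib.RingTheory.Localization.FractionRing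

/-!
# Points of regular models whose closure meets the closed fibre in one point
-/

set_option linter.style.haveILetI false
set_option backward.isDefEq.respectTransparency false
set_option backward.isDefEq.respectTransparency.types false
set_option maxHeartbeats 1000000

universe u

open CategoryTheory CategoryTheory.Limits AlgebraicGeometry TopologicalSpace IsLocalRing
open Groth.Agent.DepthTwist (stI)

noncomputable section

namespace Groth.Agent.MdlRegPt

open MdlInter

variable {R : Type u} [CommRing R] [IsDomain R] [IsDiscreteValuationRing R]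
  {X : Scheme.{u}} {p : X ⟶ Spec (CommRingCat.of R)}

/-- The immersion of a vertical curve. -/
abbrev iotaV (G : ArSurf.VertComp R (Over.mk p)) : G.curve.left ⟶ X := G.ι

theorem isClosed_F : IsClosed (Models.specialFibreSet R (Over.mk p) : Set X) :=
  Models.isClosed_specialFibreSet R (Over.mk p)

theorem mem_F_iff {y : X} : y ∈ Models.specialFibreSet R (Over.mk p) ↔ p y = IsLocalRing.closedPoint R := Iff.rfl

theorem range_subset_F (G : ArSurf.VertComp R (Over.mk p)) :
    Set.range (iotaV G) ⊆ Models.specialFibreSet R (Over.mk p) := by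
  rintro _ ⟨z, rfl⟩
  rw [mem_F_iff]
  have h : p (iotaV G z) = Spec.map (CommRingCat.ofHom (IsLocalRing.residue R)) (G.curve.hom z) :=
    congrArg (fun φ => φ.base z) G.w
  rw [h]
  apply PrimeSpectrum.ext
  show (G.curve.hom z).asIdeal.comap (IsLocalRing.residue R) = IsLocalRing.maximalIdeal R
  rw [show (G.curve.hom z).asIdeal = ⊥ from
    ((Ideal.eq_bot_or_top _).resolve_right (G.curve.hom z).2.ne_top), ← RingHom.ker_eq_comap_bot,
    IsLocalRing.ker_residue]

theorem exists_component {y : X} (hy : y ∈ Models.specialFibreSet R (Over.mk p)) :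
    ∃ Z ∈ Models.fibreComponents R (Over.mk p), y ∈ Z ∧ IsClosed (Z : Set X) := by
  let F : Set X := Models.specialFibreSet R (Over.mk p)
  let y' : F := ⟨y, hy⟩
  have hirr : IsIrreducible (Subtype.val '' irreducibleComponent y' : Set X) :=
    isIrreducible_irreducibleComponent.image _ continuous_subtype_val.continuousOn
  refine ⟨Subtype.val '' irreducibleComponent y', ⟨⟨hirr, by rintro _ ⟨z, -, rfl⟩; exact z.2⟩, fun T hT hle => ?_⟩,
    ⟨y', mem_irreducibleComponent, rfl⟩, isClosed_F.isClosedEmbedding_subtypeVal.isClosedMap _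
      isClosed_irreducibleComponent⟩
  have hT' : IsIrreducible (Subtype.val ⁻¹' T : Set F) := by
    refine ⟨?_, ?_⟩
    · obtain ⟨t, ht⟩ := hT.1.nonempty
      exact ⟨⟨t, hT.2 ht⟩, ht⟩
    · intro u v hu hv hun hvn
      rw [isOpen_induced_iff] at hu hv
      obtain ⟨u', hu', rfl⟩ := hu
      obtain ⟨v', hv', rfl⟩ := hv
      obtain ⟨a, ha, ha'⟩ := hun
      obtain ⟨b, hb, hb'⟩ := hvn
      obtain ⟨c, hc, hc1, hc2⟩ := hT.1.isPreirreducible u' v' hu' hv' ⟨a.1, ha, ha'⟩ ⟨b.1, hb, hb'⟩
      exact ⟨⟨c, hT.2 hc⟩, hc, hc1, hc2⟩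
  have hsub : irreducibleComponent y' ⊆ (Subtype.val ⁻¹' T : Set F) := fun z hz => hle ⟨z, hz, rfl⟩
  have heq := eq_irreducibleComponent hT'.isPreirreducible hsub
  intro t ht
  exact ⟨⟨t, hT.2 ht⟩, heq ▸ ht, rfl⟩

/-- When the generic fibre has dimension at most one, a vertical curve is a component of the closed fibre. -/
theorem range_mem_components [IsProper p] [Flat p]
    (hgen : topologicalKrullDim ↥(p ⁻¹' {(⟨⊥, Ideal.isPrime_bot⟩ : PrimeSpectrum R)}) ≤ 1)
    (G : ArSurf.VertComp R (Over.mk p)) :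
    Set.range (iotaV G) ∈ Models.fibreComponents R (Over.mk p) := by
  haveI : IsNoetherianRing (CommRingCat.of R) := inferInstanceAs (IsNoetherianRing R)
  haveI : LocallyOfFinitePresentation p :=
    LocallyOfFinitePresentation.iff_locallyOfFiniteType.2 inferInstance
  have hirr : IsIrreducible (Set.range (iotaV G)) := by
    rw [range_eq_closure_gen (iotaV G)]
    exact isIrreducible_singleton.closure
  refine ⟨⟨hirr, range_subset_F G⟩, fun T hT hle => ?_⟩
  obtain ⟨y, hy⟩ := QuasiSober.sober hT.1.closure isClosed_closure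
  have hTy : T ⊆ closure {y} := hy.def.symm ▸ subset_closure
  have hyF : y ∈ Models.specialFibreSet R (Over.mk p) :=
    isClosed_F.closure_subset_iff.2 hT.2 hy.mem
  have hyg : y ⤳ gen (iotaV G) :=
    specializes_iff_mem_closure.2 (hTy (hle ⟨genericPoint G.curve.left, rfl⟩))
  have heq : y = gen (iotaV G) := by
    by_contra hne
    have hgF : gen (iotaV G) ∈ Models.specialFibreSet R (Over.mk p) := range_subset_F G ⟨_, rfl⟩
    have h1 : FibDim.rd p (gen (iotaV G)) < FibDim.rd p y :=
      FibDim.rd_lt p hyg hne ((mem_F_iff.1 hyF).trans (mem_F_iff.1 hgF).symm)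
    obtain ⟨z, hz⟩ : ∃ z, z ≠ genericPoint G.curve.left := by
      by_contra hcon
      push Not at hcon
      haveI : Subsingleton G.curve.left := ⟨fun a b => (hcon a).trans (hcon b).symm⟩
      have h0 : topologicalKrullDim G.curve.left ≤ 0 := by
        rw [topologicalKrullDim, Order.krullDim_eq_of_orderIso (irreducibleSetEquivPoints (α := G.curve.left))]
        exact Order.krullDim_nonpos_of_subsingleton
      rw [G.dim_eq] at h0
      exact absurd h0 (by decide)
    have h2 : FibDim.rd p (iotaV G z) < FibDim.rd p (gen (iotaV G)) := by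
      refine FibDim.rd_lt p ((genericPoint_specializes z).map (iotaV G).continuous) ?_
        ((mem_F_iff.1 hgF).trans (mem_F_iff.1 (range_subset_F G ⟨z, rfl⟩)).symm)
      exact fun h => hz ((iotaV G).isClosedEmbedding.injective h).symm
    obtain ⟨ζ, -, hζ, hle'⟩ := FibDim.exists_generization_rd_ge p (x := y)
      (fun U hU => p.isOpenMap.image_mem_nhds hU) (y' := (⟨⊥, Ideal.isPrime_bot⟩ : PrimeSpectrum R))
      ((PrimeSpectrum.le_iff_specializes _ _).1 (bot_le (α := Ideal R)))
    have h3 := FibDim.dim_closure_inter p ζ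
    rw [hζ] at h3
    have h4 : ((FibDim.rd p ζ : ℕ∞) : WithBot ℕ∞) ≤ 1 := by
      rw [← h3]
      exact le_trans ((Topology.IsEmbedding.inclusion Set.inter_subset_right).isInducing.topologicalKrullDim_le) hgen
    have h5 : FibDim.rd p ζ ≤ 1 := by exact_mod_cast h4
    omega
  intro t ht
  rw [range_eq_closure_gen (iotaV G), ← heq]
  exact hTy ht

section local_ring

variable [IsProper p] [Flat p]

/-- The factorisation of the uniformiser at a closed point of the special fibre. -/
theorem exists_factorisation (hreg : ∀ y : X, IsRegularLocalRing (X.presheaf.stalk y)) [IsLocallyNoetherian X]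
    (hgen : topologicalKrullDim ↥(p ⁻¹' {(⟨⊥, Ideal.isPrime_bot⟩ : PrimeSpectrum R)}) ≤ 1)
    {x : X} {n : ℕ} (Γ : Fin n → ArSurf.VertComp R (Over.mk p))
    (hinj : Function.Injective fun i => Set.range (iotaV (Γ i)))
    (hΓ : ∀ Z ∈ Models.fibreComponents R (Over.mk p), x ∈ Z ↔ ∃ i, Set.range (iotaV (Γ i)) = Z)
    {ϖ : R} (hϖ : IsLocalRing.maximalIdeal R = Ideal.span {ϖ}) (hϖ0 : ϖ ≠ 0) :
    ∃ r : Fin n → X.presheaf.stalk x, (∀ i, r i ∈ IsLocalRing.maximalIdeal _) ∧
      (∀ i, 1 ≤ Models.mult R (Over.mk p) (Γ i)) ∧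
      Ideal.span {pi p ϖ x} = Ideal.span {∏ i, r i ^ Models.mult R (Over.mk p) (Γ i)} := by
  classical
  obtain ⟨_, ⟨W, hW, rfl⟩, hx, -⟩ := X.isBasis_affineOpens.exists_subset_of_mem_open
    (Set.mem_univ x) isOpen_univ
  let U : X.affineOpens := ⟨W, hW⟩
  haveI := hreg x
  haveI := RegLoc6.isDomain_of_isRegularLocalRing (X.presheaf.stalk x)
  haveI := (S2821.result (X.presheaf.stalk x)).2
  have hcomp := fun i => range_mem_components hgen (Γ i)
  have hxi : ∀ i, gen (iotaV (Γ i)) ⤳ x := fun i =>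
    (mem_range_iff (iotaV (Γ i))).1 ((hΓ _ (hcomp i)).2 ⟨i, rfl⟩)
  let q : Fin n → Ideal (X.presheaf.stalk x) := fun i => stI (iotaV (Γ i)).ker U hx
  have hqp : ∀ i, (q i).IsPrime := fun i => by
    simp only [q, stI_of_specializes _ U hx (hxi i)]
    exact Ideal.IsPrime.comap _
  have hfq : ∀ i, pi p ϖ x ∈ q i := fun i => by
    simp only [q, stI_of_specializes _ U hx (hxi i), Ideal.mem_comap, IsLocalRing.mem_maximalIdeal, mem_nonunits_iff]
    rw [show (X.presheaf.stalkSpecializes (hxi i)).hom (pi p ϖ x) = pi p ϖ (gen (iotaV (Γ i))) from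
      congrArg (fun f => f.hom (Coh.toGlobal p ϖ))
        (X.presheaf.germ_stalkSpecializes (U := ⊤) (Opens.mem_top x) (hxi i))]
    exact (isUnit_pi_iff p hϖ _).2 (range_subset_F (Γ i) ⟨_, rfl⟩)
  have hgp : ∀ i j, gen (iotaV (Γ i)) ⤳ gen (iotaV (Γ j)) → i = j := fun i j h => by
    refine hinj ((le_antisymm ?_ ?_ : Set.range (iotaV (Γ i)) = Set.range (iotaV (Γ j))))
    · refine (hcomp j).2 (hcomp i).1 ?_
      rw [range_eq_closure_gen, range_eq_closure_gen]
      exact h.closure_subset
    · rw [range_eq_closure_gen, range_eq_closure_gen]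
      exact h.closure_subset
  have hne : ∀ i j, j ≠ i → stI (iotaV (Γ j)).ker U ((hxi i).mem_open U.1.2 hx) = ⊤ := fun i j h =>
    stI_of_not_specializes _ U _ fun hs => h (hgp j i hs)
  have hinc : ∀ i j, (q i).IsPrime → (q j).IsPrime → q j ≤ q i → i = j := fun i j _ _ hle => by
    by_contra hij
    have h := Ideal.map_mono (f := (X.presheaf.stalkSpecializes (hxi i)).hom) hle
    rw [map_specializes (hxi i) _ U hx, map_specializes (hxi i) _ U hx, stI_gen, hne i j (Ne.symm hij)] at h
    exact (IsLocalRing.maximalIdeal.isMaximal _).ne_top (top_le_iff.1 h)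
  have hmin : ∀ Q : Ideal (X.presheaf.stalk x), Q.IsPrime → pi p ϖ x ∈ Q → ∃ i, (q i).IsPrime ∧ q i ≤ Q := by
    intro Q _ hQ
    obtain ⟨y, hyx, hy⟩ := H23.StalkPrimes.exists_point Q
    have hyF : y ∈ Models.specialFibreSet R (Over.mk p) := by
      rw [← isUnit_pi_iff p hϖ]
      rw [← hy, CDiv6.mem_primeOf] at hQ
      convert hQ using 2
      exact (congrArg (fun f => f.hom (Coh.toGlobal p ϖ))
        (X.presheaf.germ_stalkSpecializes (U := ⊤) (Opens.mem_top x) hyx)).symm
    obtain ⟨Z, hZ, hyZ, hZc⟩ := exists_component hyF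
    obtain ⟨i, rfl⟩ := (hΓ Z hZ).1 (hZc.closure_subset_iff.2 (Set.singleton_subset_iff.2 hyZ) hyx.mem_closure)
    refine ⟨i, hqp i, Ideal.map_le_iff_le_comap.2 fun a ha => ?_⟩
    have hgy : gen (iotaV (Γ i)) ⤳ y := (mem_range_iff (iotaV (Γ i))).1 hyZ
    rw [mem_ker_iff _ U ((hxi i).mem_open U.1.2 hx), IsLocalRing.mem_maximalIdeal, mem_nonunits_iff] at ha
    rw [Ideal.mem_comap, ← hy, CDiv6.mem_primeOf]
    intro hu
    apply ha
    have h := (congrArg (fun f => f.hom a) (X.presheaf.germ_stalkSpecializes (U := U.1) hx hyx))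
    have hu' : IsUnit (X.presheaf.germ U.1 y (hyx.mem_open U.1.2 hx) a) := h ▸ hu
    rw [← Scheme.mem_basicOpen] at hu' ⊢
    exact hgy.mem_open (X.basicOpen a).2 hu'
  have hf := pi_ne_zero p hϖ0 x
  choose r hr hqr using fun i => exists_prime_span hf q (fun i _ => hfq i) hinc hmin i (hqp i)
  obtain ⟨e, he⟩ := exists_exponents hf q (fun i _ => hfq i) hinc hmin (dvd_of_eq (pow_one _).symm)
  have hemult : ∀ i, Models.mult R (Over.mk p) (Γ i) = e i ∧ 1 ≤ e i := fun i => by
    let g := gen (iotaV (Γ i))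
    let s := (X.presheaf.stalkSpecializes (hxi i)).hom
    have hU : g ∈ U.1 := (hxi i).mem_open U.1.2 hx
    haveI := hreg g
    haveI := RegLoc6.isDomain_of_isRegularLocalRing (X.presheaf.stalk g)
    have hpi : s (pi p ϖ x) = pi p ϖ g := congrArg (fun f => f.hom (Coh.toGlobal p ϖ))
      (X.presheaf.germ_stalkSpecializes (U := ⊤) (Opens.mem_top x) (hxi i))
    have h1 : Ideal.span {pi p ϖ g} = IsLocalRing.maximalIdeal (X.presheaf.stalk g) ^ e i := by
      have h2 := congrArg (Ideal.map s) he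
      rw [Ideal.map_span, Set.image_singleton, hpi, ← Ideal.mapHom_apply, map_prod] at h2
      rw [h2, Finset.prod_eq_single i]
      · rw [map_pow, Ideal.mapHom_apply, map_specializes (hxi i) _ U hx, stI_gen]
      · intro j _ hj
        rw [map_pow, Ideal.mapHom_apply, map_specializes (hxi i) _ U hx, hne i j hj,
          ← Ideal.one_eq_top, one_pow]
      · exact fun h => absurd (Finset.mem_univ i) h
    have hm : IsLocalRing.maximalIdeal (X.presheaf.stalk g) = Ideal.span {s (r i)} := by
      rw [← stI_gen (iotaV (Γ i)) U hU, ← map_specializes (hxi i) _ U hx]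
      show (q i).map s = _
      rw [hqr i, Ideal.map_span, Set.image_singleton]
    have he1 : 1 ≤ e i := by
      refine Nat.one_le_iff_ne_zero.2 fun h0 => ?_
      rw [h0, pow_zero, Ideal.one_eq_top, Ideal.span_singleton_eq_top] at h1
      exact (isUnit_pi_iff p hϖ g).2 (range_subset_F (Γ i) ⟨_, rfl⟩) h1
    have hsr : s (r i) ≠ 0 := fun h0 => by
      rw [hm, h0, Ideal.span_singleton_eq_bot.2 rfl, ← Ideal.zero_eq_bot, zero_pow (Nat.one_le_iff_ne_zero.1 he1),
        Ideal.zero_eq_bot, Ideal.span_singleton_eq_bot] at h1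
      exact pi_ne_zero p hϖ0 g h1
    refine ⟨?_, he1⟩
    show (Module.length (X.presheaf.stalk g) (X.presheaf.stalk g ⧸
      Ideal.map (Models.stalkHom R (Over.mk p) g) (IsLocalRing.maximalIdeal R))).toNat = _
    rw [hϖ, Ideal.map_span, Set.image_singleton,
      show Ideal.span {Models.stalkHom R (Over.mk p) g ϖ} = _ from h1, hm,
      length_quotient_pow hsr (hm ▸ IsLocalRing.maximalIdeal.isMaximal _)]
    rfl
  refine ⟨r, fun i => IsLocalRing.le_maximalIdeal (hqp i).ne_top (hqr i ▸ Ideal.mem_span_singleton_self _),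
    fun i => (hemult i).1 ▸ (hemult i).2, ?_⟩
  rw [he, ← Ideal.prod_span_singleton]
  exact Finset.prod_congr rfl fun i _ => by rw [(hemult i).1, ← Ideal.span_singleton_pow, hqr i]

end local_ring

end Groth.Agent.MdlRegPt
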